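import Mathlib
import Cfsg.Agent.S0857
import Cfsg.Agent.Characters.Core
import Cfsg.Agent.Characters.Clifford
import Cfsg.Agent.OddOrderCharacters.PF9.SectionModule
import Cfsg.Agent.H726.PrimAvg

/-!
# Degrees of quasi-primitive characters of solvable groups and class sizes

`G` solvable, `χ` irreducible with homogeneous restrictions to all normal subgroups, `p` a prime:
`exists_fun` : a function `F` with `F g ≤ v_p |G : C_G(g)|` and average at least `v_p (χ 1)`.
-/

set_option autoImplicit false
set_option linter.unusedSectionVars false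

namespace Cfsg.Agent.H726.PrimChief

open Cfsg Module Cfsg.Agent.H726.PrimAvg
open Cfsg.Agent.Characters.Core Cfsg.Agent.Characters.Clifford
open scoped commutatorElement

section grp

variable {G : Type*} [Group G] [Finite G]

/-- A chief factor of a solvable group is abelian. -/
theorem comm_le (hs : Group.IsSolvable G) (N L : Subgroup G) [N.Normal] [L.Normal] (hLN : L < N)
    (hch : ∀ M : Subgroup G, M.Normal → L ≤ M → M ≤ N → M = L ∨ M = N) : ⁅N, N⁆ ≤ L := by
  have h1 : (⁅N, N⁆ ⊔ L).Normal := inferInstance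
  rcases hch (⁅N, N⁆ ⊔ L) h1 le_sup_right (sup_le (Subgroup.commutator_le_left N N) hLN.le) with h2 | h2
  · rw [← h2]; exact le_sup_left
  · exfalso
    have hne : N.map (QuotientGroup.mk' L) ≠ ⊥ := by
      intro h3
      rw [Subgroup.map_eq_bot_iff, QuotientGroup.ker_mk'] at h3
      exact absurd h3 (not_le_of_gt hLN)
    have h4 := Group.IsSolvable.commutator_lt_of_ne_bot hne
    apply absurd h4 (not_lt_of_ge _)
    rw [← Subgroup.map_commutator]
    conv_lhs => rw [← h2]
    rw [Subgroup.map_sup]
    refine sup_le le_rfl ?_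
    have h5 : L.map (QuotientGroup.mk' L) = ⊥ := by
      rw [Subgroup.map_eq_bot_iff, QuotientGroup.ker_mk']
    rw [h5]
    exact bot_le

/-- An abelian chief factor of order divisible by `p` has exponent `p`. -/
theorem pow_mem (p : ℕ) [hp : Fact p.Prime] (N L : Subgroup G) [hN : N.Normal] [hL : L.Normal] (hLN : L < N)
    (hch : ∀ M : Subgroup G, M.Normal → L ≤ M → M ≤ N → M = L ∨ M = N)
    (hab : ⁅N, N⁆ ≤ L) (hd : p ∣ L.relIndex N) : ∀ a ∈ N, a ^ p ∈ L := by
  have hcom : ∀ x ∈ N, ∀ y ∈ N, (QuotientGroup.mk' L) x * (QuotientGroup.mk' L) y =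
      (QuotientGroup.mk' L) y * (QuotientGroup.mk' L) x := by
    intro x hx y hy
    have h1 : ⁅x, y⁆ ∈ L := hab (Subgroup.commutator_mem_commutator hx hy)
    have h2 : (QuotientGroup.mk' L) ⁅x, y⁆ = 1 := (QuotientGroup.eq_one_iff _).mpr h1
    rw [map_commutatorElement, commutatorElement_eq_one_iff_mul_comm] at h2
    exact h2
  let Om : Subgroup G :=
    { carrier := {x | x ∈ N ∧ x ^ p ∈ L}
      mul_mem' := by
        rintro x y ⟨hx, hx'⟩ ⟨hy, hy'⟩
        refine ⟨N.mul_mem hx hy, ?_⟩
        rw [← QuotientGroup.eq_one_iff] at hx' hy' ⊢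
        have h1 : (QuotientGroup.mk' L) ((x * y) ^ p) =
            (QuotientGroup.mk' L) (x ^ p) * (QuotientGroup.mk' L) (y ^ p) := by
          have h2 : Commute ((QuotientGroup.mk' L) x) ((QuotientGroup.mk' L) y) := hcom x hx y hy
          rw [map_pow, map_mul, h2.mul_pow, map_pow, map_pow]
        change (QuotientGroup.mk' L) ((x * y) ^ p) = 1
        rw [h1]
        change (QuotientGroup.mk' L) (x ^ p) = 1 at hx'
        change (QuotientGroup.mk' L) (y ^ p) = 1 at hy'
        rw [hx', hy', one_mul]
      one_mem' := ⟨N.one_mem, by rw [one_pow]; exact L.one_mem⟩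
      inv_mem' := by
        rintro x ⟨hx, hx'⟩
        exact ⟨N.inv_mem hx, by rw [inv_pow]; exact L.inv_mem hx'⟩ }
  have hOm : ∀ x, x ∈ Om ↔ x ∈ N ∧ x ^ p ∈ L := fun x => Iff.rfl
  have hOmn : Om.Normal := by
    refine ⟨fun x hx g => ?_⟩
    rw [hOm] at hx ⊢
    refine ⟨hN.conj_mem x hx.1 g, ?_⟩
    rw [conj_pow]
    exact hL.conj_mem _ hx.2 g
  have hLOm : L ≤ Om := fun x hx => ⟨hLN.le hx, L.pow_mem hx p⟩
  rcases hch Om hOmn hLOm (fun x hx => hx.1) with h1 | h1
  · exfalso
    have h2 : p ∣ Nat.card (N ⧸ L.subgroupOf N) := hd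
    obtain ⟨x, hx⟩ := exists_prime_orderOf_dvd_card' (G := N ⧸ L.subgroupOf N) p h2
    induction x using QuotientGroup.induction_on with
    | H z =>
      have h3 : ((z : N ⧸ L.subgroupOf N)) ^ p = 1 := by rw [← hx]; exact pow_orderOf_eq_one _
      have h4 : (z : G) ^ p ∈ L := by
        have h5 : ((z ^ p : N) : N ⧸ L.subgroupOf N) = 1 := h3
        rw [QuotientGroup.eq_one_iff, Subgroup.mem_subgroupOf] at h5
        exact h5
      have h6 : (z : G) ∈ Om := ⟨z.2, h4⟩
      rw [h1] at h6
      have h7 : (z : N ⧸ L.subgroupOf N) = 1 := by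
        rw [QuotientGroup.eq_one_iff, Subgroup.mem_subgroupOf]
        exact h6
      rw [h7, orderOf_one] at hx
      exact hp.out.one_lt.ne hx
  · intro a ha
    have : a ∈ Om := h1 ▸ ha
    exact this.2

/-- Every nontrivial normal subgroup has a chief factor at its top. -/
theorem exists_chief (N : Subgroup G) (hN1 : N ≠ ⊥) :
    ∃ L : Subgroup G, L.Normal ∧ L < N ∧ ∀ M : Subgroup G, M.Normal → L ≤ M → M ≤ N → M = L ∨ M = N := by
  have hne : ({L : Subgroup G | L.Normal ∧ L < N} : Set (Subgroup G)).Nonempty :=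
    ⟨⊥, inferInstance, bot_lt_iff_ne_bot.2 hN1⟩
  obtain ⟨L, hL⟩ := (Set.toFinite {L : Subgroup G | L.Normal ∧ L < N}).exists_maximal hne
  refine ⟨L, hL.prop.1, hL.prop.2, fun M hM h1 h2 => ?_⟩
  rcases h2.lt_or_eq with h3 | h3
  · left
    exact le_antisymm (hL.le_of_ge ⟨hM, h3⟩ h1) h1
  · right; exact h3

theorem relIndex_dvd {L C N : Subgroup G} [hL : L.Normal] (hC : C ≤ N) (hLN : L ≤ N) :
    L.relIndex C ∣ L.relIndex N := by
  have h1 : L.relIndex (C ⊔ L) = L.relIndex C := by
    rw [Subgroup.relIndex_sup_right]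
  rw [← h1]
  exact Dvd.intro _ (Subgroup.relIndex_mul_relIndex L (C ⊔ L) N le_sup_right (sup_le hC hLN))

end grp

section main

variable {G : Type*} [Group G] [Fintype G]

/-- The centralizer of `g` in `N`. -/
def cN (N : Subgroup G) (g : G) : Subgroup G := N ⊓ Subgroup.centralizer {g}

theorem cN_card (N L : Subgroup G) (hLN : L ≤ N) (g : G) :
    Nat.card (cN N g) = Nat.card (cN L g) * L.relIndex (cN N g) := by
  have h1 : L.relIndex (cN N g) = (cN L g).relIndex (cN N g) := by
    have : cN L g = L ⊓ cN N g := by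
      unfold cN
      rw [← inf_assoc, inf_eq_left.2 hLN]
    rw [this, Subgroup.inf_relIndex_right]
  rw [h1]
  have h2 : cN L g ≤ cN N g := inf_le_inf_right _ hLN
  have h3 := Subgroup.relIndex_mul_relIndex ⊥ (cN L g) (cN N g) bot_le h2
  rw [Subgroup.relIndex_bot_left, Subgroup.relIndex_bot_left] at h3
  exact h3.symm

theorem card_eq (N L : Subgroup G) (hLN : L ≤ N) : Nat.card N = Nat.card L * L.relIndex N := by
  have h3 := Subgroup.relIndex_mul_relIndex ⊥ L N bot_le hLN
  rw [Subgroup.relIndex_bot_left, Subgroup.relIndex_bot_left] at h3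
  exact h3.symm

/-- The degree of an irreducible character of a subgroup of order one. -/
theorem degree_bot {θ : (⊥ : Subgroup G) → ℂ} (hθ : IsIrrCharacter (⊥ : Subgroup G) θ) {d : ℕ}
    (hd : θ 1 = d) : d = 1 := by
  classical
  let _ : Fintype (⊥ : Subgroup G) := Fintype.ofFinite _
  have h1 := classInner_irr_self hθ
  rw [classInner_def, Fintype.sum_eq_single (1 : (⊥ : Subgroup G))
    (fun x hx => absurd (Subsingleton.elim x 1) hx), hd, Subgroup.card_bot, Nat.cast_one, inv_one, one_mul,
    Complex.conj_natCast] at h1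
  have h2 : d * d = 1 := by exact_mod_cast h1
  exact Nat.eq_one_of_mul_eq_one_right h2

/-- The chief factor as a module: the contribution of one layer. -/
theorem layer (hs : Group.IsSolvable G) (p : ℕ) [hp : Fact p.Prime] (N L : Subgroup G) [hN : N.Normal]
    [hL : L.Normal] (hLN : L < N) (hch : ∀ M : Subgroup G, M.Normal → L ≤ M → M ≤ N → M = L ∨ M = N)
    (hab : ⁅N, N⁆ ≤ L) (v : ℕ) (hv : 0 < v) (hidx : L.relIndex N = p ^ (2 * v))
    (K : Subgroup G) (hK : ∀ x ∈ K, ∀ u ∈ N, x * u * x⁻¹ * u⁻¹ ∈ L) :
    ∃ F : G → ℕ, (∀ g, (F g) + (L.relIndex (cN N g)).factorization p ≤ 2 * v) ∧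
      Fintype.card G * v ≤ ∑ g, F g ∧ ∀ g, ∀ x ∈ K, F (g * x) = F g := by
  classical
  have hdvd : p ∣ L.relIndex N := by
    rw [hidx]; exact dvd_pow_self p (by omega)
  have hexp := pow_mem p N L hLN hch hab hdvd
  obtain ⟨E, i1, i2, π, h1, h2, h3, h4⟩ :=
    OddOrderCharacters.PF9.SectionModule.exists_module p N L
      (fun h _ k hk => hL.conj_mem k hk h)
      (fun a ha b hb => hab (Subgroup.commutator_mem_commutator ha hb)) hexp
  obtain ⟨ρ, hρ⟩ := OddOrderCharacters.PF9.SectionModule.exists_rep_normal (p := p) h1 h2 h3 hN hL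
  have hfinE : Finite E := Finite.of_surjective π h1
  have hcardE : Nat.card E = p ^ Module.finrank (ZMod p) E := by
    have := Module.natCard_eq_pow_finrank (K := ZMod p) (V := E)
    rwa [Nat.card_zmod] at this
  have hdim : Module.finrank (ZMod p) E = 2 * v := by
    rw [hcardE, hidx] at h4
    exact Nat.pow_right_injective hp.out.two_le h4
  -- irreducibility
  have hirr : ∀ W : Submodule (ZMod p) E, (∀ g, ∀ v ∈ W, ρ g v ∈ W) → W = ⊥ ∨ W = ⊤ := by
    intro W hW
    obtain ⟨M, hMN, hM⟩ := OddOrderCharacters.PF9.SectionModule.exists_subgroup h2 W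
    have hMn : M.Normal := by
      refine ⟨fun x hx g => ?_⟩
      have hxN : x ∈ N := hMN hx
      have h5 : π ⟨x, hxN⟩ ∈ W := (hM ⟨x, hxN⟩).1 hx
      have h6 := hW g _ h5
      rw [hρ] at h6
      exact (hM _).2 h6
    have hLM : L ≤ M := by
      intro x hx
      have hxN : x ∈ N := hLN.le hx
      refine (hM ⟨x, hxN⟩).2 ?_
      rw [(h3 ⟨x, hxN⟩).2 hx]
      exact W.zero_mem
    rcases hch M hMn hLM hMN with h5 | h5
    · left
      rw [eq_bot_iff]
      intro w hw
      obtain ⟨a, rfl⟩ := h1 w
      have h6 : (a : G) ∈ M := (hM a).2 hw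
      rw [h5] at h6
      rw [Submodule.mem_bot]
      exact (h3 a).2 h6
    · right
      rw [eq_top_iff]
      intro w _
      obtain ⟨a, rfl⟩ := h1 w
      refine (hM a).1 ?_
      rw [h5]
      exact a.2
  have havg := two_mul_sum_le ρ hirr (by omega) hs
  have hfx_le : ∀ g, Module.finrank (ZMod p) (fx (ρ g)) ≤ 2 * v := fun g => by
    rw [← hdim]; exact Submodule.finrank_le _
  refine ⟨fun g => 2 * v - Module.finrank (ZMod p) (fx (ρ g)), fun g => ?_, ?_, ?_⟩
  · -- the centralizer
    have h5 : (L.relIndex (cN N g)).factorization p ≤ Module.finrank (ZMod p) (fx (ρ g)) := by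
      have h6 : L.relIndex (cN N g) ∣ p ^ (2 * v) := by
        rw [← hidx]; exact relIndex_dvd inf_le_left hLN.le
      obtain ⟨a, -, ha⟩ := (Nat.dvd_prime_pow hp.out).1 h6
      rw [ha, Nat.Prime.factorization_pow hp.out, Finsupp.single_eq_same]
      -- the injection
      have hcfx : Nat.card (fx (ρ g)) = p ^ Module.finrank (ZMod p) (fx (ρ g)) := by
        have := Module.natCard_eq_pow_finrank (K := ZMod p) (V := fx (ρ g))
        rwa [Nat.card_zmod] at this
      have h7 : L.relIndex (cN N g) ≤ Nat.card (fx (ρ g)) := by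
        let f : (cN N g) → fx (ρ g) := fun c => ⟨π ⟨c, c.2.1⟩, by
          rw [mem_fx, hρ]
          congr 1
          apply Subtype.ext
          have := Subgroup.mem_centralizer_singleton_iff.1 c.2.2
          change g * (c : G) * g⁻¹ = c
          rw [← this]
          group⟩
        have hf : ∀ a b : cN N g, f a = f b ↔ a⁻¹ * b ∈ L.subgroupOf (cN N g) := by
          intro a b
          rw [Subtype.ext_iff, Subgroup.mem_subgroupOf]
          exact OddOrderCharacters.PF9.SectionModule.pi_eq_iff h2 h3 _ _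
        let f' : (cN N g) ⧸ (L.subgroupOf (cN N g)) → fx (ρ g) :=
          fun q => Quotient.liftOn' q f (fun a b hab => by
            rw [QuotientGroup.leftRel_apply] at hab
            exact (hf a b).2 hab)
        have hf' : Function.Injective f' := by
          intro a b
          induction a using QuotientGroup.induction_on with | H a => ?_
          induction b using QuotientGroup.induction_on with | H b => ?_
          intro h
          exact QuotientGroup.eq.2 ((hf a b).1 h)
        exact Nat.card_le_card_of_injective f' hf'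
      rw [ha, hcfx] at h7
      exact (Nat.pow_le_pow_iff_right hp.out.one_lt).1 h7
    have := hfx_le g
    change 2 * v - Module.finrank (ZMod p) (fx (ρ g)) + _ ≤ 2 * v
    omega
  · change _ ≤ ∑ g : G, (2 * v - Module.finrank (ZMod p) (fx (ρ g)))
    have h5 : ∑ g : G, (2 * v - Module.finrank (ZMod p) (fx (ρ g))) +
        ∑ g : G, Module.finrank (ZMod p) (fx (ρ g)) = Fintype.card G * (2 * v) := by
      rw [← Finset.sum_add_distrib, Finset.sum_congr rfl (fun g _ => Nat.sub_add_cancel (hfx_le g)),
        Finset.sum_const, Finset.card_univ, smul_eq_mul]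
    rw [hdim] at havg
    have h6 : Fintype.card G * (2 * v) = 2 * (Fintype.card G * v) := by ring
    rw [h6] at h5 havg
    omega
  · intro g x hx
    have h5 : ρ x = 1 := by
      ext w
      obtain ⟨a, rfl⟩ := h1 w
      rw [hρ, Module.End.one_apply, OddOrderCharacters.PF9.SectionModule.pi_eq_iff h2 h3]
      have h6 := hK x hx a a.2
      have h7 : (x * a * x⁻¹)⁻¹ * a = (a : G)⁻¹ * (x * a * x⁻¹ * (a : G)⁻¹)⁻¹ * a := by group
      change (x * a * x⁻¹)⁻¹ * a ∈ L
      rw [h7]
      have := hL.conj_mem _ (L.inv_mem h6) (a : G)⁻¹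
      rwa [inv_inv] at this
    change 2 * v - Module.finrank (ZMod p) (fx (ρ (g * x))) = _
    rw [map_mul, h5, mul_one]

/-- **Main induction.** -/
theorem exists_fun (hs : Group.IsSolvable G) (p : ℕ) [hp : Fact p.Prime] (χ : G → ℂ)
    (hχ : IsIrrCharacter G χ)
    (hom : ∀ N : Subgroup G, N.Normal → ∃ (θ : N → ℂ) (e : ℕ), IsIrrCharacter N θ ∧
      (fun n : N => χ n) = (e : ℂ) • θ)
    (K : Subgroup G) (hK : ∀ U V : Subgroup G, V < U → U.Normal → V.Normal →
      (∀ M : Subgroup G, M.Normal → V ≤ M → M ≤ U → M = V ∨ M = U) → (∀ u ∈ U, u ^ p ∈ V) →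
      ∀ x ∈ K, ∀ u ∈ U, x * u * x⁻¹ * u⁻¹ ∈ V) :
    ∀ n : ℕ, ∀ N : Subgroup G, N.Normal → Nat.card N = n → ∀ (θ : N → ℂ) (e : ℕ), IsIrrCharacter N θ →
      (fun n : N => χ n) = (e : ℂ) • θ → ∃ F : G → ℕ,
        (∀ g, F g + (Nat.card (cN N g)).factorization p ≤ (Nat.card N).factorization p) ∧
        (∀ d : ℕ, θ 1 = d → Fintype.card G * d.factorization p ≤ ∑ g, F g) ∧
        ∀ g, ∀ x ∈ K, F (g * x) = F g := by
  classical
  intro n
  induction n using Nat.strong_induction_on with
  | _ n ih =>
  intro N hN hcard θ e hθ hres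
  have he0 : (e : ℂ) ≠ 0 := by
    intro h0
    have h1 := congrFun hres 1
    rw [h0, zero_smul, Pi.zero_apply] at h1
    exact isIrr_apply_one_ne_zero hχ h1
  by_cases hN1 : N = ⊥
  · subst hN1
    refine ⟨fun _ => 0, fun g => ?_, fun d hd => ?_, fun _ _ _ => rfl⟩
    · have h1 : Nat.card (cN (⊥ : Subgroup G) g) = 1 := by
        have : cN (⊥ : Subgroup G) g = ⊥ := by unfold cN; exact bot_inf_eq _
        rw [this, Subgroup.card_bot]
      rw [h1]
      simp
    · rw [degree_bot hθ hd]
      simp
  · obtain ⟨L, hLn, hLN, hch⟩ := exists_chief N hN1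
    have hab := comm_le hs N L hLN hch
    have hcN := card_eq N L hLN.le
    have hposL : 0 < Nat.card L := Nat.card_pos
    have hidx0 : L.relIndex N ≠ 0 := by
      intro h0
      rw [h0, mul_zero] at hcN
      exact Nat.card_pos.ne' hcN
    have hlt : Nat.card L < n := by
      rw [← hcard]
      exact Set.Finite.card_lt_card (Set.toFinite _) hLN
    have hr0 : ∀ g, L.relIndex (cN N g) ≠ 0 := by
      intro g h0
      have := cN_card N L hLN.le g
      rw [h0, mul_zero] at this
      exact Nat.card_pos.ne' this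
    -- if `p` does not contribute
    have hstep : ∀ F : G → ℕ,
        (∀ g, F g + (Nat.card (cN L g)).factorization p ≤ (Nat.card L).factorization p) →
        (∀ g, F g + (Nat.card (cN N g)).factorization p ≤ (Nat.card N).factorization p) := by
      intro F hF g
      rw [cN_card N L hLN.le g, hcN, Nat.factorization_mul Nat.card_pos.ne' (hr0 g),
        Nat.factorization_mul Nat.card_pos.ne' hidx0, Finsupp.add_apply, Finsupp.add_apply]
      have h1 : (L.relIndex (cN N g)).factorization p ≤ (L.relIndex N).factorization p :=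
        (Nat.factorization_le_iff_dvd (hr0 g) hidx0).2 (relIndex_dvd inf_le_left hLN.le) p
      have := hF g
      omega
    have hinv : ∀ (g : G) (n : N), θ ⟨g * n * g⁻¹, hN.conj_mem (n : G) n.2 g⟩ = θ n := by
      intro g n
      have h1 := congrFun hres n
      have h2 := congrFun hres ⟨g * n * g⁻¹, hN.conj_mem (n : G) n.2 g⟩
      have h3 : χ (g * n * g⁻¹) = χ n := (isIrr_isClassFunction hχ) n g
      simp only [Pi.smul_apply, smul_eq_mul] at h1 h2
      rw [h3, h1] at h2
      exact (mul_left_cancel₀ he0 h2).symm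
    have hresL : ∀ (φ : L → ℂ), (fun x : L => θ ⟨(x : G), hLN.le x.2⟩) = φ →
        (fun x : L => χ x) = (e : ℂ) • φ := by
      rintro φ rfl
      funext x
      have := congrFun hres ⟨(x : G), hLN.le x.2⟩
      exact this
    have hone : (1 : N) = ⟨((1 : L) : G), hLN.le (1 : L).2⟩ := rfl
    rcases S0857.result N L hLN hch hab θ hθ hinv with h1 | ⟨φ, e', hφ, h1, h2⟩ | ⟨Fs, h1, h2, h3⟩
    · obtain ⟨F, hF1, hF2, hF3⟩ := ih (Nat.card L) hlt L hLn rfl _ e h1 (hresL _ rfl)
      exact ⟨F, hstep F hF1, fun d hd => hF2 d hd, hF3⟩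
    · have hres2 : (fun x : L => χ x) = ((e * e' : ℕ) : ℂ) • φ := by
        rw [hresL _ h1, smul_smul, Nat.cast_mul]
      obtain ⟨F, hF1, hF2, hF3⟩ := ih (Nat.card L) hlt L hLn rfl φ (e * e') hφ hres2
      obtain ⟨d₀, hd₀, hd₀'⟩ := isIrr_apply_one hφ
      have he' : e' ≠ 0 := by
        rintro rfl
        rw [zero_pow (by norm_num)] at h2
        exact hidx0 h2.symm
      have hdeg : ∀ d : ℕ, θ 1 = d → d = e' * d₀ := by
        intro d hd
        have h4 := congrFun h1 1
        simp only [Pi.smul_apply, smul_eq_mul] at h4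
        rw [← hone, hd, hd₀'] at h4
        exact_mod_cast h4
      by_cases hpe : p ∣ e'
      · -- a `p`-chief factor
        set v := e'.factorization p with hv
        have hvpos : 0 < v := (hp.out.dvd_iff_one_le_factorization he').1 hpe
        have hpexp : ∀ a ∈ N, a ^ p ∈ L := by
          refine pow_mem p N L hLN hch hab ?_
          rw [← h2]
          exact dvd_pow hpe (by norm_num)
        have hidx : L.relIndex N = p ^ (2 * v) := by
          have h5 : IsPGroup p (N ⧸ L.subgroupOf N) := by
            intro q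
            induction q using QuotientGroup.induction_on with | H a => ?_
            refine ⟨1, ?_⟩
            rw [pow_one, ← QuotientGroup.mk_pow, QuotientGroup.eq_one_iff, Subgroup.mem_subgroupOf]
            exact hpexp a a.2
          obtain ⟨m, hm⟩ := (IsPGroup.iff_card).1 h5
          have h6 : L.relIndex N = p ^ m := hm
          have h7 := congrArg (fun x => x.factorization p) h2
          simp only [Nat.factorization_pow, h6, Nat.Prime.factorization_pow hp.out,
            Finsupp.single_eq_same, Finsupp.smul_apply, smul_eq_mul] at h7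
          rw [h6, ← h7]
        obtain ⟨F', hF1', hF2', hF3'⟩ := layer hs p N L hLN hch hab v hvpos hidx K
          (hK N L hLN hN hLn hch hpexp)
        refine ⟨fun g => F g + F' g, fun g => ?_, fun d hd => ?_, fun g x hx => ?_⟩
        · rw [cN_card N L hLN.le g, hcN, Nat.factorization_mul Nat.card_pos.ne' (hr0 g),
            Nat.factorization_mul Nat.card_pos.ne' hidx0, Finsupp.add_apply, Finsupp.add_apply, hidx,
            Nat.Prime.factorization_pow hp.out, Finsupp.single_eq_same]
          have e1 := hF1 g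
          have e2 := hF1' g
          change F g + F' g + _ ≤ _
          omega
        · rw [hdeg d hd, Nat.factorization_mul he' hd₀.ne', Finsupp.add_apply, ← hv, mul_add,
            Finset.sum_add_distrib, add_comm]
          exact add_le_add (hF2 d₀ hd₀') hF2'
        · change F (g * x) + F' (g * x) = F g + F' g
          rw [hF3 g x hx, hF3' g x hx]
      · refine ⟨F, hstep F hF1, fun d hd => ?_, hF3⟩
        rw [hdeg d hd, Nat.factorization_mul he' hd₀.ne', Finsupp.add_apply,
          Nat.factorization_eq_zero_of_not_dvd hpe, zero_add]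
        exact hF2 d₀ hd₀'
    · -- the third case is impossible
      exfalso
      obtain ⟨θL, eL, hθL, hresθ⟩ := hom L hLn
      have hcard2 : 1 < Fs.card := by
        rw [h2]
        rcases Nat.lt_or_ge 1 (L.relIndex N) with h | h
        · exact h
        · exfalso
          have h4 : L.relIndex N = 1 := by omega
          rw [Subgroup.relIndex_eq_one] at h4
          exact absurd h4 (not_le_of_gt hLN)
      obtain ⟨φ, hφF, hφne⟩ : ∃ φ ∈ Fs, φ ≠ θL := by
        by_contra hcon
        push Not at hcon
        have : Fs ⊆ {θL} := fun φ hφ => Finset.mem_singleton.2 (hcon φ hφ)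
        have := Finset.card_le_card this
        rw [Finset.card_singleton] at this
        omega
      let _ : Fintype L := Fintype.ofFinite _
      have h4 : classInner (fun x : L => χ x) φ = 0 := by
        rw [hresθ, classInner_smul_left, classInner_irr_ne hθL (h1 φ hφF) (Ne.symm hφne), mul_zero]
      have h5 : classInner (fun x : L => χ x) φ = e := by
        rw [hresL _ h3, classInner_smul_left, classInner_sum_left, Finset.sum_eq_single φ,
          classInner_irr_self (h1 φ hφF), mul_one]
        · intro ψ hψ hne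
          exact classInner_irr_ne (h1 ψ hψ) (h1 φ hφF) hne
        · intro h
          exact absurd hφF h
      rw [h4] at h5
      exact he0 h5.symm

end main

end Cfsg.Agent.H726.PrimChief
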